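import Mathlib

/-!
# OFM [CONJ] : the arithmetic lemma

`F` finite of odd order, `a` a nonsquare.  If `f + e√a` and `f' + e'√a` have norms that
differ by a square of `F`, then `f + e√a = (x + y√a)² (f' + e'√a)` for some `x y : F`.
-/

namespace Cfsg.Agent.Lib.Helper27.OFM

universe u

variable {F : Type u} [Field F] [Fintype F]

theorem two_ne_zero_ca (hF : Odd (Fintype.card F)) : (2 : F) ≠ 0 := by
  intro h2
  have hc : ringChar F = 2 := CharP.ringChar_of_prime_eq_zero Nat.prime_two h2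
  have := (FiniteField.even_card_iff_char_two (F := F)).mp hc
  rcases hF with ⟨k, hk⟩
  omega

/-- every element is a square or `a` times a square -/
theorem sq_or_nonsq_mul {a : F} (ha : ¬ IsSquare a) (c : F) :
    (∃ x : F, c = x ^ 2) ∨ ∃ y : F, c = a * y ^ 2 := by
  classical
  by_cases hc : IsSquare c
  · obtain ⟨x, hx⟩ := hc
    exact Or.inl ⟨x, by rw [hx, pow_two]⟩
  · right
    have ha0 : a ≠ 0 := fun h => ha (h ▸ IsSquare.zero)
    have hc0 : c ≠ 0 := fun h => hc (h ▸ IsSquare.zero)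
    have h1 : quadraticChar F (c * a) = 1 := by
      rw [map_mul, quadraticChar_neg_one_iff_not_isSquare.mpr hc,
        quadraticChar_neg_one_iff_not_isSquare.mpr ha]; norm_num
    obtain ⟨w, hw⟩ := (quadraticChar_one_iff_isSquare (mul_ne_zero hc0 ha0)).mp h1
    refine ⟨w / a, ?_⟩
    field_simp
    linear_combination hw

/-- the core: a norm-square element of `F(√a)` is a square. -/
theorem exists_sq_eq_ca (hF : Odd (Fintype.card F)) {a : F} (ha : ¬ IsSquare a)
    (s t δ : F) (h : s ^ 2 - a * t ^ 2 = δ ^ 2) :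
    ∃ x y : F, x ^ 2 + a * y ^ 2 = s ∧ 2 * x * y = t := by
  have h2 : (2 : F) ≠ 0 := two_ne_zero_ca hF
  have ha0 : a ≠ 0 := fun h => ha (h ▸ IsSquare.zero)
  by_cases ht : t = 0
  · subst ht
    rcases sq_or_nonsq_mul ha s with ⟨x, hx⟩ | ⟨y, hy⟩
    · exact ⟨x, 0, by rw [hx]; ring, by ring⟩
    · exact ⟨0, y, by rw [hy]; ring, by ring⟩
  · have huv : (s + δ) / 2 * ((s - δ) / 2) = a * (t / 2) ^ 2 := by
      field_simp
      linear_combination h
    have hne : (s + δ) / 2 * ((s - δ) / 2) ≠ 0 := by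
      rw [huv]
      exact mul_ne_zero ha0 (pow_ne_zero 2 (div_ne_zero ht h2))
    have hu0 : (s + δ) / 2 ≠ 0 := left_ne_zero_of_mul hne
    rcases sq_or_nonsq_mul ha ((s + δ) / 2) with ⟨x, hx⟩ | ⟨y, hy⟩
    · have hx0 : x ≠ 0 := by
        rintro rfl
        exact hu0 (by rw [hx]; ring)
      have hv : (s - δ) / 2 = a * (t / (2 * x)) ^ 2 := by
        have : x ^ 2 * ((s - δ) / 2) = x ^ 2 * (a * (t / (2 * x)) ^ 2) := by
          have e1 : x ^ 2 * ((s - δ) / 2) = a * (t / 2) ^ 2 := by rw [← hx]; exact huv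
          rw [e1]; field_simp
        exact mul_left_cancel₀ (pow_ne_zero 2 hx0) this
      refine ⟨x, t / (2 * x), ?_, by field_simp⟩
      rw [← hv, ← hx]; field_simp; ring
    · have hy0 : y ≠ 0 := by
        rintro rfl
        exact hu0 (by rw [hy]; ring)
      have hv : (s - δ) / 2 = (t / (2 * y)) ^ 2 := by
        have : a * y ^ 2 * ((s - δ) / 2) = a * y ^ 2 * ((t / (2 * y)) ^ 2) := by
          have e1 : a * y ^ 2 * ((s - δ) / 2) = a * (t / 2) ^ 2 := by rw [← hy]; exact huv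
          rw [e1]; field_simp
        exact mul_left_cancel₀ (mul_ne_zero ha0 (pow_ne_zero 2 hy0)) this
      refine ⟨t / (2 * y), y, ?_, by field_simp⟩
      rw [← hv, ← hy]; field_simp; ring

/-- **the arithmetic lemma for [CONJ]** (orientation `N = δ² N'`).  With
`e' = B(w',w')`, `f' = B(α'w',w')`, the vector `(x + y α') w'` has the invariants
`((x²+ay²) e' + 2xy f', (x²+ay²) f' + 2xy a e')`. -/
theorem conj_arith (hF : Odd (Fintype.card F)) {a : F} (ha : ¬ IsSquare a)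
    (e f e' f' δ : F) (hne : e' ≠ 0 ∨ f' ≠ 0)
    (h : f ^ 2 - a * e ^ 2 = δ ^ 2 * (f' ^ 2 - a * e' ^ 2)) :
    ∃ x y : F, (x ^ 2 + a * y ^ 2) * e' + 2 * x * y * f' = e ∧
      (x ^ 2 + a * y ^ 2) * f' + 2 * x * y * a * e' = f := by
  have hN : f' ^ 2 - a * e' ^ 2 ≠ 0 := by
    intro h0
    by_cases he : e' = 0
    · subst he
      have : f' ^ 2 = 0 := by linear_combination h0
      rcases hne with h | h
      · exact h rfl
      · exact h (pow_eq_zero_iff (two_ne_zero) |>.mp this)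
    · apply ha
      refine ⟨f' / e', ?_⟩
      field_simp
      linear_combination -h0
  obtain ⟨x, y, hxy1, hxy2⟩ := exists_sq_eq_ca hF ha
    ((f * f' - a * e * e') / (f' ^ 2 - a * e' ^ 2)) ((e * f' - f * e') / (f' ^ 2 - a * e' ^ 2)) δ
    (by field_simp; linear_combination (f' ^ 2 - a * e' ^ 2) * h)
  refine ⟨x, y, ?_, ?_⟩
  · rw [hxy1, hxy2]; field_simp; ring
  · have : 2 * x * y * a * e' = (2 * x * y) * (a * e') := by ring
    rw [hxy1, this, hxy2]; field_simp; ring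

/-- the other orientation (`N' = δ² N`, `δ ≠ 0`), in the `a e² - f²` normalisation. -/
theorem conj_arith' (hF : Odd (Fintype.card F)) {a : F} (ha : ¬ IsSquare a)
    (e f e' f' δ : F) (hne : e' ≠ 0 ∨ f' ≠ 0) (hδ : δ ≠ 0)
    (h : a * e' ^ 2 - f' ^ 2 = δ ^ 2 * (a * e ^ 2 - f ^ 2)) :
    ∃ x y : F, (x ^ 2 + a * y ^ 2) * e' + 2 * x * y * f' = e ∧
      (x ^ 2 + a * y ^ 2) * f' + 2 * x * y * a * e' = f := by
  refine conj_arith hF ha e f e' f' δ⁻¹ hne ?_
  field_simp
  linear_combination h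

/-- the same with `a e² - f²` and the first orientation. -/
theorem conj_arith'' (hF : Odd (Fintype.card F)) {a : F} (ha : ¬ IsSquare a)
    (e f e' f' δ : F) (hne : e' ≠ 0 ∨ f' ≠ 0)
    (h : a * e ^ 2 - f ^ 2 = δ ^ 2 * (a * e' ^ 2 - f' ^ 2)) :
    ∃ x y : F, (x ^ 2 + a * y ^ 2) * e' + 2 * x * y * f' = e ∧
      (x ^ 2 + a * y ^ 2) * f' + 2 * x * y * a * e' = f :=
  conj_arith hF ha e f e' f' δ hne (by linear_combination -h)

end Cfsg.Agent.Lib.Helper27.OFM
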